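import Mathlib.RingTheory.MvPolynomial.Homogeneous
import Mathlib.Algebra.Polynomial.Degree.Operations

/-!
# Leading coefficient of a twisted translate

The substitution `x_i ↦ x_i + g_i t^S` for large `S`.
-/

universe u v w

open Polynomial

noncomputable section

namespace GrothLib.TwistLead17

variable {σ : Type w} {k : Type u} [CommRing k] {K : Type v} [CommRing K] [Algebra k K]

/-- The substitution. -/
def twist (g : σ → K) (S : ℕ) : MvPolynomial σ k →ₐ[k] Polynomial (MvPolynomial σ K) :=
  MvPolynomial.aeval fun i => Polynomial.C (MvPolynomial.X i) + Polynomial.C (MvPolynomial.C (g i)) * Polynomial.X ^ S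

variable (g : σ → K) (S : ℕ)

theorem mono_bound (hS : 0 < S) (e : σ →₀ ℕ) : ∀ s : Finset σ,
    (∏ i ∈ s, (Polynomial.C (MvPolynomial.X i) + Polynomial.C (MvPolynomial.C (g i)) * Polynomial.X ^ S) ^ e i :
      Polynomial (MvPolynomial σ K)).natDegree ≤ S * ∑ i ∈ s, e i ∧
    (∏ i ∈ s, (Polynomial.C (MvPolynomial.X i) + Polynomial.C (MvPolynomial.C (g i)) * Polynomial.X ^ S) ^ e i :
      Polynomial (MvPolynomial σ K)).coeff (S * ∑ i ∈ s, e i) = MvPolynomial.C (∏ i ∈ s, g i ^ e i) := by
  classical
  intro s
  induction s using Finset.induction_on with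
  | empty => simp
  | insert a s ha ih =>
    rw [Finset.prod_insert ha, Finset.sum_insert ha, Finset.prod_insert ha, mul_add]
    have h1 : (Polynomial.C (MvPolynomial.X a) + Polynomial.C (MvPolynomial.C (g a)) * Polynomial.X ^ S :
        Polynomial (MvPolynomial σ K)).natDegree ≤ S :=
      (natDegree_add_le _ _).trans (max_le (by simp) ((natDegree_C_mul_le _ _).trans (natDegree_X_pow_le S)))
    have h2 : (Polynomial.C (MvPolynomial.X a) + Polynomial.C (MvPolynomial.C (g a)) * Polynomial.X ^ S :
        Polynomial (MvPolynomial σ K)).coeff S = MvPolynomial.C (g a) := by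
      simp [Polynomial.coeff_C, hS.ne']
    have h3 := natDegree_pow_le_of_le (e a) h1
    have h4 := coeff_pow_of_natDegree_le (m := e a) h1
    rw [mul_comm (e a) S] at h3 h4
    refine ⟨natDegree_mul_le_of_le h3 ih.1, ?_⟩
    rw [coeff_mul_add_eq_of_natDegree_le h3 ih.1, h4, h2, ih.2, map_mul, map_pow]

theorem twist_bound (hS : 0 < S) (p : MvPolynomial σ k) (D : ℕ) (hD : p.totalDegree ≤ D) :
    (twist g S p).natDegree ≤ S * D ∧
      (twist g S p).coeff (S * D) =
        MvPolynomial.C (MvPolynomial.aeval g (MvPolynomial.homogeneousComponent D p)) := by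
  classical
  have hrw : twist g S p = ∑ e ∈ p.support, Polynomial.C (MvPolynomial.C (algebraMap k K (p.coeff e))) *
      ∏ i ∈ e.support, (Polynomial.C (MvPolynomial.X i) + Polynomial.C (MvPolynomial.C (g i)) * Polynomial.X ^ S) ^ e i := by
    rw [twist, MvPolynomial.aeval_def, MvPolynomial.eval₂_eq]
    rfl
  have hd : ∀ e ∈ p.support, (∑ i ∈ e.support, e i) ≤ D := fun e he =>
    (MvPolynomial.le_totalDegree he).trans hD
  refine ⟨?_, ?_⟩
  · rw [hrw]
    refine natDegree_sum_le_of_forall_le _ _ fun e he => (natDegree_C_mul_le _ _).trans ?_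
    exact (mono_bound g S hS e e.support).1.trans (Nat.mul_le_mul_left _ (hd e he))
  · rw [hrw, Polynomial.finsetSum_coeff, MvPolynomial.homogeneousComponent_apply, map_sum, map_sum,
      Finset.sum_filter]
    refine Finset.sum_congr rfl fun e he => ?_
    rw [Polynomial.coeff_C_mul]
    split_ifs with h
    · have := (mono_bound g S hS e e.support).2
      rw [show (∑ i ∈ e.support, e i) = D from h] at this
      rw [this, MvPolynomial.aeval_monomial, map_mul]
      rfl
    · have hlt : (∑ i ∈ e.support, e i) < D := lt_of_le_of_ne (hd e he) h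
      rw [coeff_eq_zero_of_natDegree_lt ((mono_bound g S hS e e.support).1.trans_lt (Nat.mul_lt_mul_of_pos_left hlt hS)),
        mul_zero]

theorem homogeneousComponent_totalDegree_ne_zero {R : Type u} [CommRing R] {p : MvPolynomial σ R} (hp : p ≠ 0) :
    MvPolynomial.homogeneousComponent p.totalDegree p ≠ 0 := by
  classical
  obtain ⟨e, he, he'⟩ := Finset.exists_mem_eq_sup p.support
    (Finset.nonempty_of_ne_empty fun h => hp (MvPolynomial.support_eq_empty.1 h)) fun s => s.sum fun _ n => n
  intro h
  have := congrArg (MvPolynomial.coeff e) h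
  rw [MvPolynomial.coeff_homogeneousComponent, if_pos (by exact he'.symm), MvPolynomial.coeff_zero] at this
  exact MvPolynomial.mem_support_iff.1 he this

/-- The top degree and top index. -/
theorem exists_lead (f : Polynomial (MvPolynomial σ k)) (hf : f ≠ 0) :
    ∃ (D j : ℕ), j ∈ f.support ∧ (f.coeff j).totalDegree = D ∧ (0 < f.natDegree → D = 0 → 0 < j) ∧
      ∀ S, f.natDegree < S → ∀ (K : Type v) [CommRing K] [Algebra k K] (g : σ → K),
        (f.eval₂ (twist g S).toRingHom Polynomial.X).natDegree ≤ S * D + j ∧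
        (f.eval₂ (twist g S).toRingHom Polynomial.X).coeff (S * D + j) =
          MvPolynomial.C (MvPolynomial.aeval g (MvPolynomial.homogeneousComponent D (f.coeff j))) := by
  classical
  have hne : f.support.Nonempty := support_nonempty.2 hf
  set D := f.support.sup fun i => (f.coeff i).totalDegree with hDdef
  obtain ⟨i₀, hi₀, hi₀'⟩ := Finset.exists_mem_eq_sup f.support hne fun i => (f.coeff i).totalDegree
  set T := f.support.filter fun i => (f.coeff i).totalDegree = D
  have hT : T.Nonempty := ⟨i₀, Finset.mem_filter.2 ⟨hi₀, hi₀'.symm⟩⟩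
  obtain ⟨hj, hjD⟩ := Finset.mem_filter.1 (T.max'_mem hT)
  refine ⟨D, T.max' hT, hj, hjD, fun hpos hD0 => ?_, fun S hS K _ _ g => ?_⟩
  · refine hpos.trans_le (T.le_max' _ (Finset.mem_filter.2 ⟨natDegree_mem_support_of_nonzero hf, ?_⟩))
    have h := Finset.le_sup (f := fun i => (f.coeff i).totalDegree) (natDegree_mem_support_of_nonzero hf)
    change _ ≤ D at h
    omega
  have hS0 : 0 < S := lt_of_le_of_lt (Nat.zero_le _) hS
  have hrw : f.eval₂ (twist g S).toRingHom Polynomial.X = ∑ i ∈ f.support, twist g S (f.coeff i) * X ^ i := by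
    rw [eval₂_eq_sum, Polynomial.sum_def]
    rfl
  have hle : ∀ i ∈ f.support, i ≠ T.max' hT → (twist g S (f.coeff i) * X ^ i).natDegree < S * D + T.max' hT := by
    intro i hi hne'
    have hiD : (f.coeff i).totalDegree ≤ D := Finset.le_sup (f := fun i => (f.coeff i).totalDegree) hi
    have hin : i ≤ f.natDegree := le_natDegree_of_mem_supp i hi
    refine (natDegree_mul_le_of_le (twist_bound g S hS0 _ _ le_rfl).1 (natDegree_X_pow_le i)).trans_lt ?_
    rcases hiD.lt_or_eq with h | h
    · have : S * (f.coeff i).totalDegree + S ≤ S * D := by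
        have := Nat.mul_le_mul_left S (show (f.coeff i).totalDegree + 1 ≤ D from h)
        rw [mul_add, mul_one] at this
        exact this
      omega
    · have : i < T.max' hT := lt_of_le_of_ne (T.le_max' i (Finset.mem_filter.2 ⟨hi, h⟩)) hne'
      rw [h]
      omega
  refine ⟨?_, ?_⟩
  · rw [hrw]
    refine natDegree_sum_le_of_forall_le _ _ fun i hi => ?_
    rcases eq_or_ne i (T.max' hT) with rfl | h
    · exact natDegree_mul_le_of_le (twist_bound g S hS0 _ D hjD.le).1 (natDegree_X_pow_le _)
    · exact (hle i hi h).le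
  · rw [hrw, Polynomial.finsetSum_coeff, Finset.sum_eq_single (T.max' hT)
      (fun i hi h => coeff_eq_zero_of_natDegree_lt (hle i hi h)) (fun h => absurd hj h), coeff_mul_X_pow]
    exact (twist_bound g S hS0 _ D hjD.le).2

end GrothLib.TwistLead17
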